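set_option autoImplicit false
namespace Cfsg.Agent.Lib.Helper6.TCD.S82A4
noncomputable def NC (i : Nat) : Nat := Nat.land (Nat.shiftRight 0x1cc00000000000000000007000000000000000000001b400000000000000000006b00000000000000004001a800000000000000000006700000000000000000001940000000000000001000640000000000000000000188000000000000000000060000000000000000040017c00000000000000000005d000000000000000040017000000000000000020005b00000000000000000001640000000000000000000570000000000000000400158000000000000000000054000000000000000040014c000000000000000200052000000000000000000014000000000000000010004f000000000000000000013400000000000000010004c000000000000000080012c00000000000000000004a00000000000000004001240000000000000002000480000000000000000c0011c0000000000000000000450000000000000000400110000000000000000000042000000000000000040010400000000000000020004000000000000000000000fc00000000000000010003e00000000000000008000f400000000000000030003c00000000000000000000e800000000000000010003900000000000000008000e000000000000000000003700000000000000004000d80000000000000002000350000000000000000c000d000000000000000010003300000000000000008000c800000000000000030003100000000000000000000c400000000000000000002f00000000000000004000b800000000000000020002d00000000000000000000b000000000000000010002b00000000000000008000a800000000000000030002900000000000000004000a00000000000000002000270000000000000000c000980000000000000000000260000000000000000000094000000000000000100024000000000000000080008c00000000000000030002200000000000000004000840000000000000002000200000000000000000c0007c00000000000000000001f00000000000000008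0007800000000000000030001d000000000000000040007400000000000000000001c000000000000000040006c00000000000000020001a0000000000000000c00064000000000000000100018000000000000000080005c00000000000000030001600000000000000000000580000000000000002000150000000000000000c00050000000000000000100014000000000000000040004c0000000000000002000120000000000000000c00044000000000000000000011000000000000000080004000000000000000030000f000000000000000040003c00000000000000030000e000000000000000080003800000000000000010000d000000000000000080003000000000000000030000b000000000000000000002c00000000000000020000a0000000000000000c000240000000000000001000090000000000000000c00020000000000000000200008000000000000000080001c000000000000000300006000000000000000040001800000000000000030000500000000000000008000140000000000000000000050000000000000000800010000000000000000300003000000000000000040000c00000000000000030000200000000000000008000080000000000000000000020000000000000000c00004000000000000000200001000000000000000040000400000000000000030000000000000000000008000000000000000000001000000000000000000000000000000000000000000000000 (Nat.mul 86 (Nat.land i 511))) 77371252455336267181195263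
end Cfsg.Agent.Lib.Helper6.TCD.S82A4
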