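set_option autoImplicit false
namespace Cfsg.Agent.Lib.Helper6.TCD.S82A4
noncomputable def NH (i : Nat) : Nat := Nat.land (Nat.shiftRight 0x3c00000000078000000000f0000000001e0000000003c00000000078000000000f0000000001e0000000003c00000000078000000000f0000000001e0000000003c00000000078000000000f0000000001e0000000003c00000000078000000000f0000000001e0000000003c00000000078000000000f0000000001e0000000003c00000000078000000000f0000000001e0000000003c00000000078000000000f0000000001e0000000003c00000000078000000000f0000000001e0000000003c00000000078000000000f0000000001e0000000003c00000000078000000000f0000000001e0000000003c00000000078000000000f0000000001e0000000003c00000000078000000000f0000000001e0000000003c00000000078000000000f0000000001e0000000003c00000000078000000000f0000000001e0000000003c00000000078000000000f0000000001e0000000003c00000000078000000000f0000000001e0000000003c00000000078000000000f0000000001e0000000003c00000000078000000000f0000000001e0000000003c00000000078000000000f0000000001e0000000003c00000000078000000000f0000000001e0000000003c00000000078000000000f0000000001e0000000003c00000000078000000000f0000000001e0000000003c00000000078000000000f0000000001e0000000003c00000000078000000000f0000000001e0000000003c00000000078000000000f0000000001e0000000003c00000000078000000000f0000000001e0000000003c00000000078000000000f0000000001e0000000003c00000000078000000000f0000000001e0000000003c00000000078000000000f0000000001e000000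 (Nat.mul 43 (Nat.land i 1023))) 8796093022207
end Cfsg.Agent.Lib.Helper6.TCD.S82A4
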