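set_option autoImplicit false
namespace Cfsg.Agent.Lib.Helper6.TCD.S82A4
noncomputable def SC (i : Nat) : Nat := Nat.land (Nat.shiftRight 0x90080001c02000050080000001000000100001c02000050080000001000090080000004000050080000001000090080001c020000001000000010000d0080002c02000000040000000000090080000004000050080000001000000100001c02000000100000001000000100002c02000000040000000000000100001c02000050080000001000090080001c020000001000000010000d00800000040000000400000000000900800000040000500800000010000d0080002c020000000400000000000f0080000001000000000001802000000100000004000050080000001000090080001c020000001000000010000d0080000004000000040000000000090080000004000050080000001000000100002c02000000040000000000000100000001000000000001802000000100001c02000000100000001000000100002c020000000400000000000900800000040000001000000010000d0080002c020000000400000000000f0080000001000000000001802000000100001c020000500800000010000d00800000040000000400000000000f00800000010000000000000040000000400000000000c0080002002000000100001c020000001000000010000001000000040000000400000000000900800000040000001000000010000d0080002c020000000400000000000f00800000010000000000018020000001000000040000500800000010000d00800000040000000400000000000001000000010000000000000040000000400000000000c0080002002000090080000004000050080000001000000100002c02000000040000000000000100000001000000000001802000000100001c020000001000000010000d00800000040000000400000000000f0080000001000000000000004000000040000000000000100002002000000100002c020000000400000000000f00800000010000000000018020000000400000000000c0080000004000000000001c02000050080000001000090080000004000000100000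001000000100002c02000000040000000000000100000001000000000001802000000100001c020000001000000010000d00800000040000000400000000000f00800000010000000000000040000000400000000000001000020020000001000000040000000400000000000f00800000010000000000018020000000400000000000c00800000040000000000000040000500800000010000001000000040000500800000010000d00800000040000000400000000000001000000010000000000000040000000400000000000c0080002002000000100002c020000000400000000000f00800000010000000000000040000000400000000000c0080000004000000000001c02000000100000001000000100000001000000000001802000000040000000000000100002002000000000002c020000000400000000000001000000040000001000000010000d0080000004000000040000000000000100000001000000000000004000000040000000000000100002002000000100002c020000000400000000000f00800000010000000000000040000000400000000000c0080000004000000000001c020000001000000010000001000000010000000000018020000000400000000000001000020020000000000000040000000400000000000001000000040000000400000000000f00800000010000000000018020000000400000000000c0080000004000000000000004000050080000001000000100000001000000000000004000000040000000000000100000004000000000002c020000000400000000000000400000000000c00800020020000000000000010000000000018020000001000000040000000400000000000f00800000010000000000000040000000400000000000c0080000004000000000000004000000100000001000000100000001000000000000004000000040000000000000100000004000000000002c020000000400000000000000400000000000001000020020000000000000010000000000018020000001000000010000000000018020000000400000000000001000020020000000000000040000000400000000000000400000000000c00800000040000000000000010000000000000040000000000000000000500800000010000001000000010000000000000040000000400000000000001000000040000000000000040000000400000000000000400000000000c0080000004000000000000001000000000000004000000000000000000000100000001000000040000000000000100002002000000000000001000000000001802000000000000000000000040000000000000040000000000000100000004000000000000001000000000000004000000000000000000000040000000000000000000000000000000000001000000000000000000000000000000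 (Nat.mul 30 (Nat.land i 1023))) 1073741823
end Cfsg.Agent.Lib.Helper6.TCD.S82A4
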