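set_option autoImplicit false
namespace Cfsg.Agent.Lib.Helper6.TCD.S82A4
noncomputable def WD (i : Nat) : Nat := Nat.land (Nat.shiftRight 0x23232306323232060013130400313104121212062121210600030304003030040002020400202004010101061010100600003302000022020000110200000002 (Nat.mul 32 (Nat.land i 15))) 4294967295
end Cfsg.Agent.Lib.Helper6.TCD.S82A4
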