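import Cfsg.Agent.Lib.Helper6.TCD.S82A4.SH
import Cfsg.Agent.Lib.Helper6.TCD.S82A4.SC
import Cfsg.Agent.Lib.Helper6.TCD.S82A4.NH
import Cfsg.Agent.Lib.Helper6.TCD.S82A4.NC
import Cfsg.Agent.Lib.Helper6.TCD.S82A4.WD
import Cfsg.Agent.Lib.Helper6.TCD.S82A4.WI
set_option autoImplicit false
namespace Cfsg.Agent.Lib.Helper6.TCD.S82A4
def n : Nat := 120
def ncol : Nat := 4
def nrw : Nat := 16
def nw : Nat := 16
def tmax : Nat := 480
def INV : Nat := 12816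
def N : Nat := 120
end Cfsg.Agent.Lib.Helper6.TCD.S82A4
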